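import Mathlib
import Cfsg.Agent.Fn.Cmb2
import Cfsg.Agent.Fn.LDa

set_option autoImplicit false
set_option linter.unusedSectionVars false

namespace Cfsg.Agent.Fn

open Cfsg.Agent.Loc.Mss Subgroup Cfsg.Agent.GW
open Cfsg.Agent.L5 (Mt Lam phi)
open scoped commutatorElement MatrixGroups

universe u

variable {n m : ℕ} {G X M0 : Type*} [Group G] [Finite G] [Group X] [Finite X] [Group M0] {ε : SV n →* G}
  {E : Subgroup (SV n)} {f : Fin m ↪ Fin n} {H Z B : Subgroup G} {π : G → X} {ε0 : SV m →* M0} {p : M0 →* X}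

theorem Y0.cA (h : Y0 ε E f H Z π) : 𝐂[E.map ε] ≤ H := by
  exact h.nt _ (DD_le ε E _) (hy_self _)

theorem Y0.aH (h : Y0 ε E f H Z π) : E.map ε ≤ H := by
  exact (A_cen ε E E).trans h.cA

theorem Y0.zH (h : Y0 ε E f H Z π) : Z ≤ H := by
  exact h.zA.trans h.cA

theorem Y0.oo (h : Y0 ε E f H Z π) : OO H = OO 𝐂[DD ε E (im f)] := by
  exact sq_oo h.le h.sq

theorem Y0.odd_ker (h : Y0 ε E f H Z π) {g : G} (hg : g ∈ H) (h1 : π g = 1) (ho : Odd (orderOf g)) :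
    g ∈ OO H := by
  exact res_le_of_le_sup (h.zH.trans (GT.le_normalizer_pPrimeCoreOf H)) h.zp
    (zpowers_le.2 ((h.ker g hg).1 h1)) (mem_res (mem_zpowers g) ho.coprime_two_right)

theorem DD_im_le (ε : SV n →* G) (E : Subgroup (SV n)) (f : Fin m ↪ Fin n) (i j : Fin m) :
    DD ε E (im f) ≤ DD ε E {f i, f j} := by
  exact DD_anti fun x hx => by
    rcases Finset.mem_insert.1 hx with rfl | hx
    · simp
    · simp [Finset.mem_singleton.1 hx]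

theorem Y0.mtH (h : Y0 ε E f H Z π) (fb : Fb ε E) (i j : Fin m) : 𝐂[DD ε E {f i, f j}] ≤ H := by
  exact h.nt _ (DD_im_le ε E f i j) (fb.hy_DD Finset.card_le_two)

theorem pbk_hy (hE : Ek E) (hB : Hy (E.map ε) B) : Hy ((Sg m).map ε0) (pbk ε f ε0 B) := by
  refine ⟨map_mono inf_le_left, ?_⟩
  rintro _ ⟨a, ha, rfl⟩ _ ⟨b, hb, rfl⟩ h1 h2
  have := hB.2 _ (mem_map_of_mem ε (hE.sg_le (xt_mem f ha))) _ (mem_map_of_mem ε (hE.sg_le (xt_mem f hb)))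
    (fun l => h1 (mem_map_of_mem ε0 ⟨ha, l⟩)) fun l => h2 (mem_map_of_mem ε0 ⟨hb, l⟩)
  rw [← map_mul, ← map_mul] at this
  exact map_mul ε0 a b ▸ mem_map_of_mem ε0 ⟨mul_mem ha hb, this⟩

theorem pbk_DD (fb : Fb ε E) (i j : Fin m) : pbk ε f ε0 (DD ε E {f i, f j}) = DD ε0 (Sg m) {i, j} := by
  refine congrArg (map ε0) (Subgroup.ext fun a => and_congr_right fun ha => ?_)
  refine (fb.mem_DD (fb.ek.sg_le (xt_mem f ha))).trans ?_
  simp [On]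

theorem PkA.odd_sq [Finite M0] (ho : Odd (Nat.card (center M0))) {c : M0} (hc : c ∈ center M0)
    (e : c * c = 1) : c = 1 :=
  orderOf_eq_one_iff.1 (Nat.eq_one_of_dvd_coprimes ho.coprime_two_right (orderOf_dvd_natCard _ hc)
    (orderOf_dvd_of_pow_eq_one (by rw [pow_two, e])))

theorem PkA.exists_t {Y : Type*} [Group Y] {N : ℕ} (ho : Odd N) (k : ℕ) :
    ∃ t, N ∣ t ∧ ∀ y : Y, y ^ 2 ^ k = 1 → y ^ t = y :=
  ⟨N ^ (2 ^ k).totient, dvd_pow_self N (Nat.totient_pos.2 (by positivity)).ne', fun y e => by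
    conv_rhs => rw [← pow_one y]
    exact pow_eq_pow_iff_modEq.2 ((Nat.ModEq.pow_totient (ho.coprime_two_right.pow_right k)).of_dvd
      (orderOf_dvd_of_pow_eq_one e))⟩

theorem PkA.odd (md : Md ε0) : Odd m := by
  rcases md.hm with rfl | rfl <;> decide

theorem PkA.mem_iff (h : Y0 ε E f H Z π) (hB : B ≤ H) {y : X} :
    y ∈ (B.subgroupOf H).map h.hom ↔ ∃ g ∈ B, π g = y :=
  ⟨fun ⟨g, a, b⟩ => ⟨g, a, b⟩, fun ⟨g, a, b⟩ => ⟨⟨g, hB a⟩, a, b⟩⟩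

/-- Involutions lift uniquely along a central extension with kernel of odd order. -/
theorem lift_uniq [Finite M0] (ho : Odd (Nat.card (center M0))) (hk : ∀ g, p g = 1 → g ∈ center M0) {x y : M0}
    (xx : x * x = 1) (yy : y * y = 1) (e : p x = p y) : x = y := by
  have hc := hk (x⁻¹ * y) (by rw [map_mul, map_inv, e, inv_mul_cancel])
  refine inv_mul_eq_one.1 (PkA.odd_sq ho hc ?_)
  rw [mul_assoc, mem_center_iff.1 hc y, mul_assoc, yy, mul_one, ← mul_inv_rev, xx, inv_one]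

theorem lift_two [Finite M0] (ho : Odd (Nat.card (center M0))) (hk : ∀ g, p g = 1 → g ∈ center M0) {y : X}
    (hy : y ∈ p.range) {k : ℕ} (e : y ^ 2 ^ k = 1) : ∃ x, p x = y ∧ x ^ 2 ^ k = 1 := by
  obtain ⟨x, rfl⟩ := hy
  obtain ⟨t, ⟨s, rfl⟩, ht⟩ := PkA.exists_t (Y := X) ho k
  refine ⟨x ^ (Nat.card (center M0) * s), by rw [map_pow, ht _ e], ?_⟩
  have := congrArg Subtype.val (pow_card_eq_one' (x := (⟨_, hk (x ^ 2 ^ k) (by rw [map_pow, e])⟩ : center M0)))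
  rw [← pow_mul, mul_comm, pow_mul, pow_mul, show (x ^ 2 ^ k) ^ Nat.card (center M0) = 1 from this, one_pow]

theorem lift_comm [Finite M0] (ho : Odd (Nat.card (center M0))) (hk : ∀ g, p g = 1 → g ∈ center M0) {x y : M0}
    (xx : x * x = 1) (c : Commute (p x) (p y)) : Commute x y := by
  have hc := hk ⁅x, y⁆ (by rw [map_commutatorElement, c.commutator_eq])
  refine commutatorElement_eq_one_iff_commute.1 (PkA.odd_sq ho hc ?_)
  calc ⁅x, y⁆ * ⁅x, y⁆ = x * (⁅x, y⁆ * y) * x⁻¹ * y⁻¹ := by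
        rw [← mul_assoc x, mem_center_iff.1 hc x, commutatorElement_def]; group
    _ = (x * x) * y * (x * x)⁻¹ * y⁻¹ := by rw [commutatorElement_def]; group
    _ = 1 := by rw [xx]; group

theorem Pk.img (h : Pk ε E f H Z π ε0 p) (hE : Ek E) (hm : Odd m) (hD : DD ε E (im f) ≤ B) (hB : B ≤ E.map ε)
    (y : X) : y ∈ (pbk ε f ε0 B).map p ↔ ∃ v ∈ B, π v = y := by
  refine ⟨?_, ?_⟩
  · rintro ⟨_, ⟨a, ha, rfl⟩, rfl⟩
    exact ⟨_, ha.2, (h.al a ha.1).symm⟩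
  · rintro ⟨v, hv, rfl⟩
    obtain ⟨a, ha, rfl⟩ := hB hv
    obtain ⟨d, hd, a', ha', rfl⟩ := hE.dec hm f ha
    have h1 := mem_map_of_mem ε hd
    rw [map_mul] at hv ⊢
    refine ⟨ε0 a', mem_map_of_mem ε0 ⟨ha', (mul_mem_cancel_left (hD h1)).1 hv⟩, ?_⟩
    rw [h.mul _ (h.zH (h.dZ h1)) _ (h.aH (mem_map_of_mem ε (hE.sg_le (xt_mem f ha')))),
      (h.ker _ (h.zH (h.dZ h1))).2 (mem_sup_right (h.dZ h1)), one_mul, h.al a' ha']

theorem Pk.map_cen (h : Pk ε E f H Z π ε0 p) (hE : Ek E) (md : Md ε0) (hD : DD ε E (im f) ≤ B)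
    (hB : Hy (E.map ε) B) {x : M0} : x ∈ 𝐂[pbk ε f ε0 B] ↔ ∃ g ∈ 𝐂[B], π g = p x := by
  have := md.fin
  refine ⟨fun hx => h.cen B hD hB _ fun v hv => ?_, fun ⟨g, hg, e⟩ => mem_cent.2 ?_⟩
  · obtain ⟨b, hb, e⟩ := (h.img hE (PkA.odd md) hD hB.1 _).2 ⟨v, hv, rfl⟩
    exact e ▸ (show Commute b x from mem_cent.1 hx b hb).symm.map p
  · rintro _ ⟨a, ha, rfl⟩
    refine lift_comm md.oz h.pk (eps_sq ε0 a) ?_
    have h1 := h.aH (hB.1 ha.2)
    have h2 := h.nt B hD hB hg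
    rw [h.al a ha.1, ← e]
    exact (h.mul _ h1 _ h2).symm.trans ((congrArg π (mem_cent.1 hg _ ha.2)).trans (h.mul _ h2 _ h1))

theorem PkA.eq_Mt (h : Pk ε E f H Z π ε0 p) (hE : Ek E) (md : Md ε0) (hD : DD ε E (im f) ≤ B)
    (hB : Hy (E.map ε) B) : (Mt (pbk ε f ε0 B)).map p = ((Mt B).subgroupOf H).map h.toY0.hom := by
  have := md.fin
  have h1 := h.nt B hD hB
  refine le_antisymm (map_le_iff_le_comap.2 ((closure_le _).2 ?_))
    (map_le_iff_le_comap.2 ((subgroupOf_le_iff ((L5.Mt_le B).trans h1)).2 ((closure_le _).2 ?_)))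
  · rintro x ⟨hx, k, e⟩
    obtain ⟨g, hg, e'⟩ := (h.map_cen hE md hD hB).1 hx
    obtain ⟨j, hj⟩ := exists_pow_coprime (p := 2) g
    obtain ⟨t, ht, ht'⟩ := PkA.exists_t (Y := X) (Nat.coprime_two_right.1 hj) k
    refine ⟨⟨g, h1 hg⟩ ^ t, L5.mem_Mt (pow_mem hg t) (n := j) ?_, ?_⟩
    · exact (pow_right_comm g t _).trans (orderOf_dvd_iff_pow_eq_one.1 ht)
    · rw [map_pow, Y0.hom_apply, e', ht' _ (by rw [← map_pow, e, map_one])]
  · rintro g ⟨hg, k, e⟩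
    have e' : π g ^ 2 ^ k = 1 := by
      rw [← h.toY0.hom_apply ⟨g, h1 hg⟩, ← map_pow, show (⟨g, h1 hg⟩ : H) ^ 2 ^ k = 1 from Subtype.ext e,
        map_one]
    obtain ⟨x, a, b⟩ := lift_two md.oz h.pk (h.two _ k e') e'
    exact ⟨⟨g, h1 hg⟩, ⟨x, L5.mem_Mt ((h.map_cen hE md hD hB).2 ⟨g, hg, a.symm⟩) b, a⟩, rfl⟩

theorem Pk.map_Mt (h : Pk ε E f H Z π ε0 p) (hE : Ek E) (md : Md ε0) (hD : DD ε E (im f) ≤ B)
    (hB : Hy (E.map ε) B) (y : X) : y ∈ (Mt (pbk ε f ε0 B)).map p ↔ ∃ g ∈ Mt B, π g = y := by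
  rw [PkA.eq_Mt h hE md hD hB]
  exact PkA.mem_iff h.toY0 ((L5.Mt_le B).trans (h.nt B hD hB))

theorem Pk.map_Lam (h : Pk ε E f H Z π ε0 p) (hE : Ek E) (md : Md ε0) (hD : DD ε E (im f) ≤ B)
    (hB : Hy (E.map ε) B) (y : X) : y ∈ (Lam (pbk ε f ε0 B)).map p ↔ ∃ g ∈ Lam B, π g = y := by
  have h1 := (L5.Mt_le B).trans (h.nt B hD hB)
  rw [← PkA.mem_iff h.toY0 ((L5.Lam_le B).trans h1), Lam, Lam, Subgroup.map_commutator, PkA.eq_Mt h hE md hD hB,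
    ← Subgroup.map_commutator]
  conv_rhs => rw [← map_subgroupOf_eq_of_le h1, ← Subgroup.map_commutator, subgroupOf,
    comap_map_eq_self_of_injective H.subtype_injective]

theorem Pk.map_K (h : Pk ε E f H Z π ε0 p) (fb : Fb ε E) (md : Md ε0) (i j : Fin m) (y : X) :
    y ∈ (St ε0 i j).map p ↔ ∃ g ∈ KK ε E (f i) (f j), π g = y := by
  rw [← h.map_Lam fb.ek md (DD_im_le ε E f i j) (fb.hy_DD Finset.card_le_two), pbk_DD fb]

end Cfsg.Agent.Fn
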