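import Mathlib
import Cfsg.Agent.F5.Defs

/-!
The 2-fusion systems of `L_n(q)` and `U_n(q)`, `q` odd, any `n`: the monomial model.
See `stubs/Cfsg/Agent/Fn/PLAN.md`.
-/

set_option autoImplicit false
set_option linter.unusedSectionVars false

namespace Cfsg.Agent.Fn

open Subgroup Cfsg.Agent.F5

variable {n : ℕ}

/-- The monomial group; it contains a Sylow 2-subgroup of `SL_n(q)` or `SU_n(q)`. -/
def U (n M : ℕ) (b : Bool) : Subgroup (Mon n (2 ^ M)) where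
  carrier := {m | m.s * pb n b = pb n b * m.s ∧ (∀ i, m.d (pb n b i) = ee M b * m.d i) ∧ dg m = 0}
  one_mem' := ⟨by simp, by simp, dg_one⟩
  mul_mem' := fun {x y} hx hy => ⟨by rw [Mon.mul_s, mul_assoc, hy.1, ← mul_assoc, hx.1, mul_assoc],
    fun i => by
      have h : y.s (pb n b i) = pb n b (y.s i) := DFunLike.congr_fun hy.1 i
      rw [Mon.mul_d, Mon.mul_d, hy.2.1, h, hx.2.1, mul_add],
    by rw [dg_mul, hx.2.2, hy.2.2, add_zero]⟩
  inv_mem' := fun {x} hx => by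
    have h : x.s⁻¹ * pb n b = pb n b * x.s⁻¹ := (show Commute x.s (pb n b) from hx.1).inv_left
    refine ⟨h, fun i => ?_, ?_⟩
    · have h' : x.s⁻¹ (pb n b i) = pb n b (x.s⁻¹ i) := DFunLike.congr_fun h i
      rw [Mon.inv_d, Mon.inv_d, h', hx.2.1, mul_neg]
    · have := dg_mul x⁻¹ x
      rwa [inv_mul_cancel, dg_one, hx.2.2, add_zero, eq_comm] at this

theorem mem_U {M : ℕ} {b : Bool} {m : Mon n (2 ^ M)} : m ∈ U n M b ↔
    m.s * pb n b = pb n b * m.s ∧ (∀ i, m.d (pb n b i) = ee M b * m.d i) ∧ dg m = 0 := Iff.rfl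

/-- The exponent of the 2-part of the order of `U n M b`. -/
def exU (n M : ℕ) (b : Bool) : ℕ :=
  if b then (M - 1) * (n - 1) + padicValNat 2 n.factorial
  else M * (n / 2) + n % 2 - 1 + n / 2 + padicValNat 2 (n / 2).factorial

variable {K : Type} [Field K]

/-- A form of `GL_n(q)` or `GU_n(q)` inside `GL_n(q²)` that contains the monomial model. -/
structure Tw2 (n M : ℕ) (b : Bool) (G : Subgroup (GL (Fin n) K)) (Λ : Subgroup Kˣ)
    (ψ : AddChar (ZMod (2 ^ M)) K) : Prop where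
  hn : 2 ≤ n
  hM : 3 ≤ M
  fin : Finite K
  two : (2 : K) ≠ 0
  inj : Function.Injective ψ
  ctl : ∀ (Γ : Type) [Group Γ] [Finite Γ], IsPGroup 2 Γ → ∀ a a' : Γ →* GL (Fin n) K,
    (∀ γ, a γ ∈ G) → (∀ γ, a' γ ∈ G) → (∃ g : GL (Fin n) K, ∀ γ, a' γ = g * a γ * g⁻¹) →
    ∃ g ∈ G, ∀ γ, a' γ = g * a γ * g⁻¹
  mem : ∀ m ∈ U n M b, mon ψ m ∈ G0 G
  card : padicValNat 2 (Nat.card (G0 G)) = exU n M b
  det : ∀ g ∈ G, Matrix.GeneralLinearGroup.det g ∈ Λ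
  diag : ∀ l ∈ Λ, ∀ J : Finset (Fin n), (∀ i ∈ J, pb n b i ∈ J) → ∀ g : GL (Fin n) K,
    (g : Matrix (Fin n) (Fin n) K) = Matrix.diagonal (fun i => if i ∈ J then (l : K) else 1) → g ∈ G
  cen : ∀ g : G0 G, g ∈ center (G0 G) →
    ∃ l : K, ((g : GL (Fin n) K) : Matrix (Fin n) (Fin n) K) = l • 1

/-- `X` is `L_n(q)` or `U_n(q)` with `2 ^ M` the 2-part of `q² - 1`; `b` says `4 ∣ q - ε`. -/
def IsTw2 (n M : ℕ) (b : Bool) (X : Type*) [Group X] : Prop :=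
  ∃ (K : Type) (_ : Field K) (G : Subgroup (GL (Fin n) K)) (Λ : Subgroup Kˣ)
    (ψ : AddChar (ZMod (2 ^ M)) K), Tw2 n M b G Λ ψ ∧ Nonempty (X ≃* PS G)

end Cfsg.Agent.Fn
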