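import Mathlib
import Cfsg.Agent.Fn.DefsB
import Cfsg.Agent.F5.CdT

/-! The order of the monomial group. -/

set_option autoImplicit false
set_option linter.unusedSectionVars false

namespace Cfsg.Agent.Fn

open Subgroup Cfsg.Agent.F5 Cfsg.Agent.F5.CdT

namespace CardU

variable {n M : ℕ} {b : Bool}

theorem pb_val (i : Fin n) :
    (pb n false i).1 = if i.1 % 2 = 1 then i.1 - 1 else if i.1 + 1 < n then i.1 + 1 else i.1 := piF_val i

/-- Coordinates on the exponent vectors. -/
def eqv (n k : ℕ) : D n (k + 3) false ≃ (Fin (n / 2) → ZMod (2 ^ (k + 3))) ×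
    (Fin (n % 2) → {x : ZMod (2 ^ (k + 3)) // x = ee (k + 3) false * x}) where
  toFun d := (fun j => d.1 ⟨2 * j, by omega⟩, fun j => ⟨d.1 ⟨n - 1, by have := j.2; omega⟩, by
    have := j.2
    rw [← d.2]
    exact congrArg d.1 (Fin.ext (by rw [pb_val]; dsimp only; split_ifs <;> omega))⟩)
  invFun x := ⟨fun i => if h : i.1 / 2 < n / 2 then (if i.1 % 2 = 0 then 1 else ee (k + 3) false) * x.1 ⟨_, h⟩
    else x.2 ⟨0, by omega⟩, fun i => by
    have hv := pb_val i
    have h2 : (pb n false i).1 / 2 = i.1 / 2 := by rw [hv]; split_ifs <;> omega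
    by_cases h : i.1 / 2 < n / 2
    · simp only [h2, h, dif_pos]
      by_cases h' : i.1 % 2 = 0
      · rw [if_pos h', if_neg (by rw [hv]; split_ifs <;> omega), one_mul]
      · rw [if_neg h', if_pos (by rw [hv]; split_ifs <;> omega), one_mul, ← mul_assoc, ee_sq, one_mul]
    · simp only [h2, h, dif_neg, not_false_eq_true]
      exact (x.2 _).2⟩
  left_inv d := Subtype.ext (funext fun i => by
    dsimp only
    split_ifs with h h'
    · rw [one_mul]
      exact congrArg d.1 (Fin.ext (by dsimp only; omega))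
    · rw [← d.2]
      exact congrArg d.1 (Fin.ext (by rw [pb_val]; dsimp only; split_ifs <;> omega))
    · exact congrArg d.1 (Fin.ext (by dsimp only; omega)))
  right_inv x := by
    refine Prod.ext (funext fun j => ?_) (funext fun j => Subtype.ext ?_)
    · dsimp only
      rw [dif_pos (by omega), if_pos (by omega), one_mul]
      exact congrArg x.1 (Fin.ext (by dsimp only; omega))
    · have := j.2
      dsimp only
      rw [dif_neg (by omega)]
      exact congrArg (fun i => (x.2 i).1) (Fin.ext (by dsimp only; omega))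

theorem card_D2 (n k : ℕ) : Nat.card (D n (k + 3) false) = 2 ^ ((k + 3) * (n / 2) + n % 2) := by
  rw [Nat.card_congr (eqv n k), Nat.card_prod, Nat.card_pi, Nat.card_pi, card_fix]
  simp [pow_add, pow_mul]

theorem card_C (hn : 2 ≤ n) :
    Nat.card {s : Equiv.Perm (Fin n) // s * pi n = pi n * s} = 2 ^ (n / 2) * (n / 2).factorial := by
  have h1 := Equiv.Perm.cycleType_of_pow_prime_eq_one (σ := pi n) (p := 2) (Equiv.ext fun i => piF_invol n i)
  have h2 : (pi n).support = Finset.univ.filter fun i : Fin n => i.1 < 2 * (n / 2) := Finset.ext fun i => by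
    rw [Equiv.Perm.mem_support, Finset.mem_filter_univ, pi_apply, Ne, Fin.ext_iff, piF_val]
    split_ifs <;> omega
  have h3 := (pi n).sum_cycleType
  rw [h2, Fin.card_filter_val_lt, h1, Multiset.sum_replicate, smul_eq_mul] at h3
  rw [show (pi n).cycleType.card = n / 2 by omega] at h1
  rw [Nat.card_congr (Equiv.subtypeEquivRight fun s => mem_centralizer_singleton_iff.symm),
    Equiv.Perm.nat_card_centralizer, h1, Multiset.toFinset_replicate, if_neg (by omega), Finset.prod_singleton,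
    Multiset.count_replicate_self, Multiset.prod_replicate, Multiset.sum_replicate, Fintype.card_fin,
    Nat.factorial_eq_one.2 (by rw [smul_eq_mul]; omega), one_mul]

/-- The group without the condition on the determinant. -/
def S (n M : ℕ) (b : Bool) : Subgroup (Mon n (2 ^ M)) where
  carrier := {m | m.s * pb n b = pb n b * m.s ∧ ∀ i, m.d (pb n b i) = ee M b * m.d i}
  one_mem' := ⟨by simp, by simp⟩
  mul_mem' := fun {x y} hx hy => ⟨by rw [Mon.mul_s, mul_assoc, hy.1, ← mul_assoc, hx.1, mul_assoc],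
    fun i => by
      have h : y.s (pb n b i) = pb n b (y.s i) := DFunLike.congr_fun hy.1 i
      rw [Mon.mul_d, Mon.mul_d, hy.2, h, hx.2, mul_add]⟩
  inv_mem' := fun {x} hx => by
    have h : x.s⁻¹ * pb n b = pb n b * x.s⁻¹ := (show Commute x.s (pb n b) from hx.1).inv_left
    refine ⟨h, fun i => ?_⟩
    have h' : x.s⁻¹ (pb n b i) = pb n b (x.s⁻¹ i) := DFunLike.congr_fun h i
    rw [Mon.inv_d, Mon.inv_d, h', hx.2, mul_neg]

/-- The determinant. -/
def δ (n M : ℕ) (b : Bool) : S n M b →* Multiplicative (ZMod (2 ^ M)) :=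
  MonoidHom.mk' (fun m => Multiplicative.ofAdd (dg m.1)) fun x y => by rw [coe_mul, dg_mul]; rfl

theorem card_S : Nat.card (S n M b) =
    Nat.card {s : Equiv.Perm (Fin n) // s * pb n b = pb n b * s} * Nat.card (D n M b) := by
  rw [← Nat.card_prod]
  exact Nat.card_congr ⟨fun m => (⟨m.1.s, m.2.1⟩, ⟨m.1.d, m.2.2⟩), fun x => ⟨⟨x.2.1, x.1.1⟩, x.1.2, x.2.2⟩,
    fun _ => rfl, fun _ => rfl⟩

theorem card_S' : Nat.card (S n M b) = Nat.card (δ n M b).range * Nat.card (U n M b) := by
  rw [card_eq_card_quotient_mul_card_subgroup (δ n M b).ker,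
    Nat.card_congr (QuotientGroup.quotientKerEquivRange _).toEquiv]
  congr 1
  exact Nat.card_congr ⟨fun m => ⟨m.1.1, m.1.2.1, m.1.2.2, m.2⟩, fun m => ⟨⟨m.1, m.2.1, m.2.2.1⟩, m.2.2.2⟩,
    fun _ => rfl, fun _ => rfl⟩

theorem card_range (hn : 2 ≤ n) (k : ℕ) : Nat.card (δ n (k + 3) b).range = 2 ^ (if b then k + 2 else 1) := by
  have h1 : ∀ x ∈ (δ n (k + 3) b).range, x.toAdd = ee (k + 3) b * x.toAdd := by
    rintro _ ⟨m, rfl⟩
    change dg m.1 = _ * dg m.1
    rw [dg, mul_add, Finset.mul_sum, ← Finset.sum_congr rfl fun i _ => m.2.2 i, Equiv.sum_comp (pb n b) m.1.d]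
    split_ifs
    exacts [by rw [mul_zero], by rw [← hf_fix]]
  refine le_antisymm ?_ ?_
  · rw [← card_fix k b]
    exact Nat.card_le_card_of_injective (fun x => ⟨x.1.toAdd, h1 x.1 x.2⟩)
      fun x y e => Subtype.ext (congrArg Subtype.val e :)
  cases b
  · have p0 : pb n false ⟨0, by omega⟩ = ⟨1, hn⟩ := Fin.ext (by rw [pb_val]; dsimp only; split_ifs <;> omega)
    have p1 : pb n false ⟨1, hn⟩ = ⟨0, by omega⟩ := Fin.ext (by rw [pb_val]; rfl)
    have h2 := (eq_bot_iff_forall (δ n (k + 3) false).range).1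
    refine (one_lt_card_iff_ne_bot _).2 fun e => hf_ne k ?_
    have h3 : dg (⟨0, Equiv.swap ⟨0, by omega⟩ ⟨1, hn⟩⟩ : Mon n (2 ^ (k + 3))) = 0 :=
      h2 e _ ⟨⟨⟨0, Equiv.swap ⟨0, by omega⟩ ⟨1, hn⟩⟩, by
        rw [Equiv.mul_swap_eq_swap_mul, p0, p1, Equiv.swap_comm], by simp⟩, rfl⟩
    simpa [dg, Equiv.Perm.sign_swap] using h3
  · rw [← card_fix k true]
    refine Nat.card_le_card_of_injective (fun x => ⟨Multiplicative.ofAdd x.1, ?_⟩)
      fun x y e => Subtype.ext (congrArg Subtype.val e :)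
    refine ⟨⟨⟨fun i => if i = ⟨0, by omega⟩ then x.1 else 0, 1⟩, by simp, fun i => ?_⟩,
      congrArg Multiplicative.ofAdd (by simp [dg])⟩
    change (if i = _ then _ else _) = _ * (if i = _ then _ else _)
    split_ifs
    exacts [x.2, by rw [mul_zero]]

theorem val_eq {a c e f : ℕ} (hf : f ≠ 0) (h : 2 ^ (a + e) * f = 2 ^ a * c) :
    padicValNat 2 c = e + padicValNat 2 f := by
  rw [pow_add, mul_assoc] at h
  rw [← Nat.eq_of_mul_eq_mul_left (pow_pos two_pos _) h, padicValNat.mul (pow_pos two_pos _).ne' hf,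
    padicValNat.prime_pow]

end CardU

open CardU

/-- The 2-part of the order of the monomial group. -/
theorem val_U {n M : ℕ} {b : Bool} (hn : 2 ≤ n) (hM : 3 ≤ M) :
    padicValNat 2 (Nat.card (U n M b)) = exU n M b := by
  obtain ⟨k, rfl⟩ : ∃ k, M = k + 3 := ⟨M - 3, by omega⟩
  have h := CardU.card_S' (n := n) (M := k + 3) (b := b)
  rw [CardU.card_S, CardU.card_range hn] at h
  cases b
  · refine val_eq (Nat.factorial_ne_zero _) (Eq.trans ?_ h)
    rw [CardU.card_D2, show pb n false = pi n from rfl, CardU.card_C hn, mul_right_comm, ← pow_add]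
    have : 1 ≤ (k + 3) * (n / 2) := Nat.mul_pos (by omega) (by omega)
    congr 2
    simp only [Bool.false_eq_true, if_false]
    omega
  · refine val_eq (Nat.factorial_ne_zero _) (Eq.trans ?_ h)
    rw [card_D1, show pb n true = 1 from rfl, Nat.card_congr (Equiv.subtypeUnivEquiv fun s => (mul_one s).trans (one_mul s).symm),
      Nat.card_perm, Nat.card_fin, mul_comm]
    obtain ⟨n, rfl⟩ : ∃ m, n = m + 1 := ⟨n - 1, by omega⟩
    congr 2
    simp [mul_add, add_comm]

end Cfsg.Agent.Fn
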