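import Mathlib
import Cfsg.Agent.Fn.DefsB
import Cfsg.Agent.F5.Num

/-! The 2-parts of the orders of `SL_n(q)` and `SU_n(q)`, `q` odd. -/

set_option autoImplicit false
set_option linter.unusedSectionVars false

namespace Cfsg.Agent.Fn

open Subgroup Cfsg.Agent.F5 Cfsg.Agent.F5.Num

namespace NumU

theorem ne_of_odd {x : ℤ} (h : Odd x) : x ≠ 0 := fun e => by
  rw [e] at h; exact absurd h (by decide)

theorem odd_fac {a : ℤ} (ha : Odd a) (k : ℕ) : ∃ s, Odd s ∧ a ^ (2 * k + 1) - 1 = (a - 1) * s := by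
  induction k with
  | zero => exact ⟨1, odd_one, by ring⟩
  | succ k ih =>
    obtain ⟨s, hs, e⟩ := ih
    refine ⟨a ^ 2 * s + (a + 1), (ha.pow.mul hs).add_even ha.add_one, ?_⟩
    calc a ^ (2 * (k + 1) + 1) - 1 = a ^ 2 * (a ^ (2 * k + 1) - 1) + (a ^ 2 - 1) := by ring
      _ = _ := by rw [e]; ring

theorem abs_even (a : ℤ) (k : ℕ) (h : a ≠ 0) :
    (a ^ (2 * k) - 1).natAbs = a.natAbs ^ (2 * k) - 1 := by
  have h1 : 1 ≤ a.natAbs ^ (2 * k) := Nat.one_le_pow _ _ (Int.natAbs_pos.2 h)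
  rw [← Int.natAbs_natCast (a.natAbs ^ (2 * k) - 1)]
  push_cast [h1]
  rw [pow_mul, pow_mul, sq_abs]

section

variable {a : ℤ} (ha : Odd a) (h1 : a ^ 2 - 1 ≠ 0)
include ha h1

theorem one_lt : 1 < a.natAbs := by
  have h2 := Int.natAbs_pos.2 (ne_of_odd ha)
  by_contra h3
  refine h1 ?_
  rw [← Int.natAbs_pow_two, show a.natAbs = 1 by omega]
  rfl

theorem v_odd (k : ℕ) : (a ^ (2 * k + 1) - 1).natAbs ≠ 0 ∧
    padicValNat 2 (a ^ (2 * k + 1) - 1).natAbs = padicValNat 2 (a - 1).natAbs := by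
  have n1 : a - 1 ≠ 0 := fun h => h1 (by rw [sub_eq_zero.1 h]; norm_num)
  obtain ⟨s, hs, e⟩ := odd_fac ha k
  rw [e]
  exact ⟨Int.natAbs_ne_zero.2 (mul_ne_zero n1 (ne_of_odd hs)), by
    rw [vI_mul n1 (ne_of_odd hs), vI_odd hs, add_zero]⟩

theorem v_even (k : ℕ) : (a ^ (2 * (k + 1)) - 1).natAbs ≠ 0 ∧
    padicValNat 2 (a ^ (2 * (k + 1)) - 1).natAbs =
      padicValNat 2 (a ^ 2 - 1).natAbs + padicValNat 2 (k + 1) := by
  have : Fact (Nat.Prime 2) := ⟨Nat.prime_two⟩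
  have h2 := one_lt ha h1
  have h3 := abs_even a 1 (ne_of_odd ha)
  rw [mul_one] at h3
  rw [abs_even a _ (ne_of_odd ha), h3, val_sq h2]
  have h4 := padicValNat.pow_two_sub_one h2 (Int.natAbs_odd.2 ha).not_two_dvd_nat
    (n := 2 * (k + 1)) (by omega) (even_two_mul _)
  rw [padicValNat.mul two_ne_zero (Nat.add_one_ne_zero k), padicValNat.self (by norm_num)] at h4
  have h5 : 1 < a.natAbs ^ (2 * (k + 1)) := Nat.one_lt_pow (by omega) h2
  exact ⟨by omega, by omega⟩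

end

theorem v_fac (n : ℕ) :
    padicValNat 2 (n + 1).factorial = padicValNat 2 (n + 1) + padicValNat 2 n.factorial := by
  have : Fact (Nat.Prime 2) := ⟨Nat.prime_two⟩
  rw [Nat.factorial_succ, padicValNat.mul (Nat.succ_ne_zero n) (Nat.factorial_ne_zero n)]

theorem ex_odd {M : ℕ} (h0 : 1 ≤ M) (b : Bool) (k : ℕ) :
    exU (2 * (k + 1) + 1) M b = exU (2 * (k + 1)) M b + if b then M - 1 else 1 := by
  obtain ⟨m, rfl⟩ : ∃ m, M = m + 1 := ⟨M - 1, by omega⟩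
  cases b
  · simp only [exU, Bool.false_eq_true, if_false]
    rw [show (2 * (k + 1) + 1) / 2 = k + 1 by omega, show 2 * (k + 1) / 2 = k + 1 by omega,
      show (2 * (k + 1) + 1) % 2 = 1 by omega, show 2 * (k + 1) % 2 = 0 by omega,
      show (m + 1) * (k + 1) = m * (k + 1) + k + 1 by ring]
    omega
  · simp only [exU, if_true, Nat.add_sub_cancel]
    rw [v_fac, val_odd (odd_two_mul_add_one _), show 2 * (k + 1) - 1 = 2 * k + 1 by omega]
    ring

theorem ex_even {M : ℕ} (h0 : 1 ≤ M) (b : Bool) (k : ℕ) :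
    exU (2 * (k + 1)) M b = exU (2 * k + 1) M b + (M + padicValNat 2 (k + 1)) := by
  have : Fact (Nat.Prime 2) := ⟨Nat.prime_two⟩
  obtain ⟨m, rfl⟩ : ∃ m, M = m + 1 := ⟨M - 1, by omega⟩
  cases b
  · simp only [exU, Bool.false_eq_true, if_false]
    rw [show (2 * k + 1) / 2 = k by omega, show 2 * (k + 1) / 2 = k + 1 by omega,
      show (2 * k + 1) % 2 = 1 by omega, show 2 * (k + 1) % 2 = 0 by omega, v_fac,
      show (m + 1) * (k + 1) = (m + 1) * k + m + 1 by ring]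
    omega
  · simp only [exU, if_true, Nat.add_sub_cancel]
    rw [show 2 * (k + 1) - 1 = 2 * k + 1 by omega, show 2 * (k + 1) = 2 * k + 1 + 1 by ring, v_fac,
      show 2 * k + 1 + 1 = 2 * (k + 1) by ring,
      padicValNat.mul two_ne_zero (Nat.add_one_ne_zero k), padicValNat.self (by norm_num)]
    ring

theorem val_prod {a : ℤ} (ha : Odd a) (h1 : a ^ 2 - 1 ≠ 0) {M : ℕ} {b : Bool}
    (hM : padicValNat 2 (a ^ 2 - 1).natAbs = M) (h0 : 1 ≤ M)
    (hu : padicValNat 2 (a - 1).natAbs = if b then M - 1 else 1) (n : ℕ) :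
    ∏ i ∈ Finset.range n, (a ^ (i + 2) - 1).natAbs ≠ 0 ∧
      padicValNat 2 (∏ i ∈ Finset.range n, (a ^ (i + 2) - 1).natAbs) = exU (n + 1) M b := by
  have : Fact (Nat.Prime 2) := ⟨Nat.prime_two⟩
  induction n with
  | zero => exact ⟨one_ne_zero, by cases b <;> simp [exU]⟩
  | succ n ih =>
    rw [Finset.prod_range_succ]
    obtain ⟨k, rfl | rfl⟩ := Nat.even_or_odd' n
    · obtain ⟨p, e⟩ := v_even ha h1 k
      rw [show 2 * k + 2 = 2 * (k + 1) by ring]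
      exact ⟨mul_ne_zero ih.1 p, by rw [padicValNat.mul ih.1 p, ih.2, e, hM, ex_even h0]⟩
    · obtain ⟨p, e⟩ := v_odd ha h1 (k + 1)
      rw [show 2 * k + 1 + 1 = 2 * (k + 1) by ring] at ih ⊢
      rw [show 2 * k + 1 + 2 = 2 * (k + 1) + 1 by ring]
      exact ⟨mul_ne_zero ih.1 p, by rw [padicValNat.mul ih.1 p, ih.2, e, hu, ex_odd h0]⟩

theorem val_eOrd {n : ℕ} (hn : 2 ≤ n) {a : ℤ} (ha : Odd a) (h1 : a ^ 2 - 1 ≠ 0) {M : ℕ} {b : Bool}
    (hM : padicValNat 2 (a ^ 2 - 1).natAbs = M) (h0 : 1 ≤ M)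
    (hu : padicValNat 2 (a - 1).natAbs = if b then M - 1 else 1) :
    padicValNat 2 (Cl.Cls.eOrd a n) = exU n M b := by
  have : Fact (Nat.Prime 2) := ⟨Nat.prime_two⟩
  obtain ⟨p, e⟩ := val_prod ha h1 hM h0 hu (n - 1)
  have oa : Odd (a.natAbs ^ (n * (n - 1) / 2)) := (Int.natAbs_odd.2 ha).pow
  rw [Cl.Cls.eOrd, padicValNat.mul oa.pos.ne' p, val_odd oa, zero_add, e,
    Nat.sub_add_cancel (by omega)]

end NumU

theorem val_SL {n q : ℕ} (hn : 2 ≤ n) {F : Type*} [Field F] [Fintype F] (hF : Fintype.card F = q)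
    (hq : Odd q) : padicValNat 2 (Nat.card (Matrix.SpecialLinearGroup (Fin n) F)) =
      exU n (padicValNat 2 (q ^ 2 - 1)) (decide (q % 4 = 1)) := by
  have h1 : 1 < q := hF ▸ Fintype.one_lt_card
  have h2 := Nat.odd_iff.1 hq
  have h3 := three_le_val hq h1.ne'
  rw [Cl.Cls.card_SL_eq, hF]
  refine NumU.val_eOrd hn (by exact_mod_cast hq) (sq_ne h1) (by rw [natAbs_sq h1.le]) (by omega) ?_
  rw [show ((q : ℤ) - 1).natAbs = q - 1 by omega]
  by_cases h4 : q % 4 = 1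
  · rw [decide_eq_true h4, if_pos rfl, ← (val_of_one h1.ne' h4).1, Nat.add_sub_cancel]
  · rw [decide_eq_false h4, if_neg Bool.false_ne_true, (val_of_three (q := q) (by omega)).2]

theorem val_SU {n q : ℕ} (hn : 2 ≤ n) {K : Type*} [Field K] {σ : K →+* K} (h : Cl.UField σ q)
    (hq : Odd q) : padicValNat 2 (Nat.card (Cfsg.SU n K q)) =
      exU n (padicValNat 2 (q ^ 2 - 1)) (decide (q % 4 = 3)) := by
  have h1 : 1 < q := h.two_le
  have h2 := Nat.odd_iff.1 hq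
  have h3 := three_le_val hq h1.ne'
  rw [Cl.Cls.card_SU_eq h (by omega)]
  refine NumU.val_eOrd hn (Odd.neg (by exact_mod_cast hq)) (by rw [neg_sq]; exact sq_ne h1)
    (by rw [neg_sq, natAbs_sq h1.le]) (by omega) ?_
  rw [show (-(q : ℤ) - 1).natAbs = q + 1 by omega]
  by_cases h4 : q % 4 = 3
  · rw [decide_eq_true h4, if_pos rfl, ← (val_of_three h4).1, Nat.add_sub_cancel]
  · rw [decide_eq_false h4, if_neg Bool.false_ne_true, (val_of_one h1.ne' (by omega)).2]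

end Cfsg.Agent.Fn
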