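import Mathlib
import Cfsg.Agent.Fn.NumU
import Cfsg.Agent.F5.TwP
import Cfsg.Agent.F5.TwM

/-! The linear and unitary groups contain the monomial model, for every degree. -/

set_option autoImplicit false
set_option linter.unusedSectionVars false

namespace Cfsg.Agent.Fn

open Subgroup Cfsg.Agent.F5

namespace Tw2A

open TwA

variable {n M : ℕ} {b : Bool} {K : Type} [Field K] {ψ : AddChar (ZMod (2 ^ M)) K}

theorem isTw2_of (hn : 2 ≤ n) (hM : 3 ≤ M) [Finite K] (two : (2 : K) ≠ 0) (inj : Function.Injective ψ)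
    (H : Subgroup (GL (Fin n) K)) (Λ : Subgroup Kˣ) (c : GL (Fin n) K) {S : Type*} [Group S] (e : S ≃* G0 H)
    (ctl : ∀ (Γ : Type) [Group Γ] [Finite Γ], IsPGroup 2 Γ → ∀ a a' : Γ →* GL (Fin n) K,
      (∀ γ, a γ ∈ H) → (∀ γ, a' γ ∈ H) → (∃ g : GL (Fin n) K, ∀ γ, a' γ = g * a γ * g⁻¹) →
      ∃ g ∈ H, ∀ γ, a' γ = g * a γ * g⁻¹)
    (mem : ∀ m ∈ U n M b, c * mon ψ m * c⁻¹ ∈ H) (card : padicValNat 2 (Nat.card S) = exU n M b)
    (det : ∀ g ∈ H, Matrix.GeneralLinearGroup.det g ∈ Λ)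
    (diag : ∀ l ∈ Λ, ∀ J : Finset (Fin n), (∀ i ∈ J, pb n b i ∈ J) → ∀ g : GL (Fin n) K,
      (g : Matrix (Fin n) (Fin n) K) = Matrix.diagonal (fun i => if i ∈ J then (l : K) else 1) →
      c * g * c⁻¹ ∈ H)
    (cen : ∀ s ∈ center S, ∃ l : K, ((e s : GL (Fin n) K) : Matrix (Fin n) (Fin n) K) = l • 1) :
    IsTw2 n M b (S ⧸ center S) := by
  refine ⟨K, inferInstance, tw H c, Λ, ψ, ⟨hn, hM, inferInstance, two, inj, fun Γ _ _ hΓ a a' ha ha' ⟨g, hg⟩ => ?_,
    fun m hm => mem_G0.2 ⟨mem m hm, ?_⟩, ?_, fun g hg => det_conj c g ▸ det _ hg, diag, fun g hg => ?_⟩,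
    ⟨Cl.centerQuotCongr (e.trans (twE H c).symm)⟩⟩
  · obtain ⟨k, hk, h⟩ := ctl Γ hΓ ((MulAut.conj c).toMonoidHom.comp a) ((MulAut.conj c).toMonoidHom.comp a') ha ha'
      ⟨c * g * c⁻¹, fun γ => by simp [hg, mul_assoc]⟩
    refine ⟨c⁻¹ * k * c, mem_tw.2 (by simpa [mul_assoc] using hk), fun γ => ?_⟩
    have h1 : c * a' γ * c⁻¹ = k * (c * a γ * c⁻¹) * k⁻¹ := h γ
    calc a' γ = c⁻¹ * (c * a' γ * c⁻¹) * c := by group
      _ = _ := by rw [h1]; group
  · rw [coe_mon, det_monM (by omega) inj, hm.2.2, AddChar.map_zero_eq_one]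
  · rw [← card, Nat.card_congr (e.trans (twE H c).symm).toEquiv]
  · obtain ⟨l, hl⟩ := cen (e.symm (twE H c g)) ((Cl.mulEquiv_mem_center_iff ((twE H c).trans e.symm) g).2 hg)
    rw [e.apply_symm_apply] at hl
    have h1 := conj_smul c⁻¹ hl
    refine ⟨l, hl ▸ congrArg Units.val (Eq.trans ?_ h1)⟩
    change (g : GL (Fin n) K) = c⁻¹ * (c * g * c⁻¹) * c⁻¹⁻¹
    group

theorem pb_mem_iff {J : Finset (Fin n)} (hJ : ∀ i ∈ J, pb n b i ∈ J) (k : Fin n) : pb n b k ∈ J ↔ k ∈ J :=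
  ⟨fun h => by simpa only [pb_pb] using hJ _ h, hJ k⟩

theorem s_pb {m : Mon n (2 ^ M)} (hm : m ∈ U n M b) (i : Fin n) : m.s (pb n b i) = pb n b (m.s i) :=
  DFunLike.congr_fun hm.1 i

end Tw2A

open TwA TwP Tw2A Cl in
theorem isTw2_psl {n q : ℕ} (hn : 2 ≤ n) {F : Type*} [Field F] [Fintype F]
    (hF : Fintype.card F = q) (hq : Odd q) :
    IsTw2 n (padicValNat 2 (q ^ 2 - 1)) (decide (q % 4 = 1))
      (Matrix.ProjectiveSpecialLinearGroup (Fin n) F) := by
  obtain ⟨p, hp⟩ := CharP.exists F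
  have : Fact p.Prime := ⟨CharP.char_is_prime F p⟩
  have hF' : Nat.card F = q := by rw [Nat.card_eq_fintype_card, hF]
  obtain ⟨K, _, _, hK⟩ : ∃ (K : Type) (_ : Field K) (_ : Fintype K), Fintype.card K = q ^ 2 :=
    ⟨FiniteField.Extension F p 2, inferInstance, Fintype.ofFinite _, by
      rw [Fintype.card_eq_nat_card, FiniteField.natCard_extension, hF']⟩
  obtain ⟨σ, h⟩ := exists_uField hK
  obtain ⟨ι, hι⟩ := h.exists_embedding hF'
  have h1 : q ≠ 1 := by have := h.two_le; omega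
  obtain ⟨ψ, inj, hψ⟩ := exists_psi h
  have hM := three_le_val hq h1
  have he := cast_eq_ee hq h1
  have hv := val_SL hn hF hq
  generalize decide (q % 4 = 1) = b at he hv ⊢
  generalize padicValNat 2 (q ^ 2 - 1) = M at *
  have two : (2 : K) ≠ 0 := two_ne (by rw [h.card]; exact hq.pow)
  obtain ⟨c, hc⟩ := exists_c h.invol two (J_sq (ψ := ψ) (n := n) (b := b)) (by
    rw [map_monM hψ]
    congr 1
    exact Mon.ext (funext fun _ => mul_zero _) rfl)
  have hqe : (q : ZMod (2 ^ M)) * ee M b = 1 := by rw [he, ee_mul_ee (by omega)]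
  refine isTw2_of hn hM two inj (HH n ι) (fixU σ) c (slE n ι) (ctl (two_ne (hF' ▸ hq)) two)
    (fun m hm => conj_mem hι J_sq hc ?_) hv (fun g hg => mem_fixU.2 ?_)
    (fun l hl J hJ g hg => conj_mem hι J_sq hc ?_) fun s hs => ?_
  · rw [coe_mon, map_monM hψ, ← map_mul, ← map_mul]
    congr 1
    refine Mon.ext (funext fun i => ?_) (Equiv.ext fun i => s_pb hm i)
    simp only [Mon.mul_d, JJ, Pi.zero_apply, zero_add, add_zero, hm.2.1, ← mul_assoc, hqe, one_mul]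
  · exact (σ.map_det _).trans (congrArg Matrix.det ((mem_HH hι).1 hg))
  · ext j k
    rw [hg, Matrix.diagonal_map (map_zero σ), Matrix.mul_diagonal, Matrix.diagonal_mul, J_apply]
    by_cases e : j = pb n b k
    · rw [if_pos e, mul_one, one_mul, e]
      by_cases e' : k ∈ J
      · rw [if_pos e', if_pos (hJ k e')]; exact mem_fixU.1 hl
      · rw [if_neg e', if_neg fun x => e' ((pb_mem_iff hJ k).1 x), map_one]
    · rw [if_neg e, mul_zero, zero_mul]
  · obtain ⟨r, -, hr⟩ := Matrix.SpecialLinearGroup.mem_center_iff.1 hs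
    refine ⟨ι r, ?_⟩
    change (s : Matrix (Fin n) (Fin n) F).map ι = _
    rw [← hr, Matrix.scalar_apply, Matrix.diagonal_map (map_zero ι), Matrix.smul_one_eq_diagonal]

open TwA TwM Tw2A Cl Cl.Cls in
theorem isTw2_psu {n q : ℕ} (hn : 2 ≤ n) {K : Type} [Field K] [Fintype K]
    (hK : Fintype.card K = q ^ 2) (hq : Odd q) :
    IsTw2 n (padicValNat 2 (q ^ 2 - 1)) (decide (q % 4 = 3)) (Cfsg.PSU n K q) := by
  obtain ⟨σ, h⟩ := exists_uField hK
  have h1 : q ≠ 1 := by have := h.two_le; omega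
  obtain ⟨ψ, inj, hψ⟩ := exists_psi h
  have hM := three_le_val hq h1
  have he := neg_cast_eq_ee hq h1
  have hv := val_SU hn h hq
  generalize decide (q % 4 = 3) = b at he hv ⊢
  generalize padicValNat 2 (q ^ 2 - 1) = M at *
  have hJ : uStar σ (monM ψ (JJ n b _)) = monM ψ (JJ n b _) := by
    rw [uStar_monM hψ]
    congr 1
    exact Mon.ext (funext fun _ => mul_zero _) (inv_eq_of_mul_eq_one_left (congrArg Mon.s (JJ_sq (N := 1))))
  obtain ⟨c, hc, hc', -⟩ := exists_uStar_mul_eq h.invol (IsUnit.of_mul_eq_one _ J_sq) hJ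
  obtain ⟨c, rfl⟩ := hc
  have hqe : (q : ZMod (2 ^ M)) * ee M b = -1 := by
    rw [← neg_eq_iff_eq_neg, ← neg_mul, he, ee_mul_ee (by omega)]
  refine isTw2_of hn hM (two_ne (by rw [h.card]; exact hq.pow)) inj (GU n K q) (uNormOne σ) c (suE h)
    (fun Γ _ _ _ a a' ha ha' ⟨g, hg⟩ => ?_) (fun m hm => conj_mem h hc' ?_) hv (fun g hg => ?_)
    (fun l hl J hJ g hg => conj_mem h hc' ?_)
    fun s hs => (h.mem_center_SU_iff hn).1 hs
  · obtain ⟨k, hk, hk'⟩ := exists_unitary_intertwiner h.invol (A := fun γ => (a γ : Matrix (Fin n) (Fin n) K))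
      (B := fun γ => (a' γ : Matrix (Fin n) (Fin n) K)) (fun γ => (mem_GU_iff_uStar h _).1 (ha γ))
      (fun γ => (mem_GU_iff_uStar h _).1 (ha' γ)) g.isUnit
      fun γ => by rw [← Units.val_mul, ← Units.val_mul, hg, inv_mul_cancel_right]
    obtain ⟨k, rfl⟩ : IsUnit k := IsUnit.of_mul_eq_one_right _ hk
    exact ⟨k, (mem_GU_iff_uStar h _).2 hk, fun γ => eq_mul_inv_of_mul_eq (Units.ext (hk' γ).symm)⟩
  · rw [coe_mon, uStar_monM hψ, ← map_mul, ← map_mul]
    congr 1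
    refine Mon.ext (funext fun i => ?_) (Equiv.ext fun i => ?_)
    · simp only [Mon.mul_d, JJ, Pi.zero_apply, zero_add, ← s_pb hm, Equiv.Perm.coe_inv,
        Equiv.symm_apply_apply, hm.2.1, ← mul_assoc, hqe]
      ring
    · simp [JJ, ← s_pb hm]
  · have := congrArg Matrix.det ((mem_GU_iff_uStar h _).1 hg)
    rw [Matrix.det_mul, det_uStar, Matrix.det_one, mul_comm] at this
    exact this
  · ext j k
    have : uStar σ (g : Matrix (Fin n) (Fin n) K) =
        Matrix.diagonal fun j => σ (if j ∈ J then (l : K) else 1) := by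
      rw [hg, uStar, Matrix.diagonal_map (map_zero σ), Matrix.diagonal_transpose]
    rw [this, hg, Matrix.mul_diagonal, Matrix.diagonal_mul, J_apply]
    by_cases e : j = pb n b k
    · rw [if_pos e, mul_one, e, mul_comm]
      by_cases e' : k ∈ J
      · rw [if_pos e', if_pos (hJ k e')]; exact hl
      · rw [if_neg e', if_neg fun x => e' ((pb_mem_iff hJ k).1 x), map_one, mul_one]
    · rw [if_neg e, mul_zero, zero_mul]

end Cfsg.Agent.Fn
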